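import Groth.Agent.NumFieldLib.SplitEmb
import Mathlib.FieldTheory.Normal.Closure
import Mathlib.FieldTheory.Galois.Basic
import Mathlib.RingTheory.IntegralDomain
import Mathlib.FieldTheory.IsAlgClosed.AlgebraicClosure

/-!
# The cyclic subextension of an almost abelian extension
-/

set_option linter.style.haveILetI false

open NumberField IsDedekindDomain
open scoped Pointwise

universe u

namespace Groth.Agent.NumFieldLib

theorem exists_cyclic_subext (K L Ω : Type u) [Field K] [NumberField K]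
    [Field L] [NumberField L] [Algebra K L] [Field Ω] [Algebra K Ω] [IsAlgClosure K Ω]
    (p : ℕ) (hp : p.Prime) (e : (L →ₐ[K] Ω) ≃ ZMod p)
    (haff : ∀ σ : Ω ≃ₐ[K] Ω, ∃ a b : ZMod p, a ≠ 0 ∧
      ∀ φ : L →ₐ[K] Ω, e (σ.toAlgHom.comp φ) = a * e φ + b)
    (hnab : IsGalois K L → ∃ σ τ : L ≃ₐ[K] L, σ * τ ≠ τ * σ) :
    ∃ E : IntermediateField K Ω, E ≤ IntermediateField.normalClosure K L Ω ∧
      FiniteDimensional K E ∧ IsGalois K E ∧ IsCyclic (E ≃ₐ[K] E) ∧ 1 < Module.finrank K E ∧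
      ∀ w : HeightOneSpectrum (𝓞 K),
        (∀ P : Ideal (𝓞 L), P.IsPrime → P.LiesOver w.asIdeal → P.ramificationIdx (𝓞 K) = 1) →
        Nonempty (E →ₐ[K] w.adicCompletion K) ∨ Nonempty (L →ₐ[K] w.adicCompletion K) := by
  haveI : Fact p.Prime := ⟨hp⟩
  haveI : IsAlgClosed Ω := IsAlgClosure.isAlgClosed K
  haveI : Algebra.IsAlgebraic K Ω := IsAlgClosure.isAlgebraic
  haveI : Normal K Ω := IsAlgClosure.normal K Ω
  let M := IntermediateField.normalClosure K L Ω
  haveI : FiniteDimensional K M := normalClosure.is_finiteDimensional K L Ω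
  haveI : Normal K M := normalClosure.normal K L Ω
  haveI : IsGalois K M := ⟨⟩
  haveI : NumberField M := NumberField.of_module_finite K M
  let eM : (L →ₐ[K] M) → ZMod p := fun φ => e (M.val.comp φ)
  have heinj : Function.Injective eM := fun φ φ' h => AlgHom.ext fun x =>
    Subtype.ext (congr($(e.injective h) x))
  let Φ : ZMod p → (L →ₐ[K] M) := fun c => (e.symm c).codRestrict M.toSubalgebra fun x =>
    (e.symm c).fieldRange_le_normalClosure ⟨x, rfl⟩
  have hΦ : ∀ c, eM (Φ c) = c := fun c => by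
    have : M.val.comp (Φ c) = e.symm c := AlgHom.ext fun x => rfl
    simp [eM, this]
  have haffM : ∀ τ : Gal(M/K), ∃ a b : ZMod p, a ≠ 0 ∧
      ∀ φ : L →ₐ[K] M, eM (τ.toAlgHom.comp φ) = a * eM φ + b := fun τ => by
    obtain ⟨a, b, ha, h⟩ := haff (τ.liftNormal Ω)
    refine ⟨a, b, ha, fun φ => ?_⟩
    rw [← h]
    refine congrArg e (AlgHom.ext fun x => ?_)
    exact (AlgEquiv.liftNormal_commutes τ Ω (φ x)).symm
  choose A B hA hAB using haffM
  have hA1 : ∀ τ, A τ = eM (τ.toAlgHom.comp (Φ 1)) - eM (τ.toAlgHom.comp (Φ 0)) := fun τ => by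
    rw [hAB, hAB, hΦ, hΦ]; ring
  let χ : Gal(M/K) →* (ZMod p)ˣ := MonoidHom.mk' (fun τ => Units.mk0 (A τ) (hA τ)) fun σ τ => Units.ext <| by
    have h : ∀ c, eM ((σ * τ).toAlgHom.comp (Φ c)) = A σ * (A τ * c + B τ) + B σ := fun c => by
      have : (σ * τ).toAlgHom.comp (Φ c) = σ.toAlgHom.comp (τ.toAlgHom.comp (Φ c)) := rfl
      rw [this, hAB, hAB, hΦ]
    show A (σ * τ) = A σ * A τ
    rw [hA1, h, h]; ring
  have hχ : ∀ τ, τ ∈ χ.ker ↔ A τ = 1 := fun τ => by
    simp [χ, MonoidHom.mem_ker, Units.ext_iff]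
  have hfaith : ∀ τ : Gal(M/K), (∀ φ : L →ₐ[K] M, τ.toAlgHom.comp φ = φ) → τ = 1 := fun τ h => by
    refine AlgEquiv.ext fun x => ?_
    let S := IntermediateField.fixedField (Subgroup.zpowers τ)
    have hS : M ≤ IntermediateField.lift S := by
      refine normalClosure_le_iff.2 fun f => ?_
      rintro _ ⟨y, rfl⟩
      let φ : L →ₐ[K] M := f.codRestrict M.toSubalgebra fun x => f.fieldRange_le_normalClosure ⟨x, rfl⟩
      refine ⟨φ y, ?_, rfl⟩
      rw [SetLike.mem_coe]
      intro ⟨σ, hσ⟩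
      obtain ⟨n, rfl⟩ := Subgroup.mem_zpowers_iff.1 hσ
      have hτ : τ ∈ MulAction.stabilizer Gal(M/K) (φ y) := congr($(h φ) y)
      exact (Subgroup.zpow_mem _ hτ n)
    obtain ⟨y, hy, hyx⟩ := hS x.2
    have : y = x := Subtype.ext hyx
    subst this
    exact hy ⟨τ, Subgroup.mem_zpowers τ⟩
  let N := χ.ker
  let E0 : IntermediateField K M := IntermediateField.fixedField N
  haveI : IsGalois K E0 := IsGalois.of_fixedField_normal_subgroup N
  let eE : IntermediateField.lift E0 ≃ₐ[K] E0 := (IntermediateField.liftAlgEquiv E0).symm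
  refine ⟨IntermediateField.lift E0, IntermediateField.lift_le E0, Module.Finite.equiv eE.symm.toLinearEquiv,
    IsGalois.of_algEquiv eE.symm, ?_, ?_, fun w hw => ?_⟩
  · haveI : IsCyclic (Gal(M/K) ⧸ N) :=
      isCyclic_of_injective (QuotientGroup.kerLift χ) (QuotientGroup.kerLift_injective χ)
    haveI : IsCyclic Gal(E0/K) := isCyclic_of_surjective (IsGalois.normalAutEquivQuotient N).toMonoidHom
      (IsGalois.normalAutEquivQuotient N).surjective
    exact isCyclic_of_surjective (AlgEquiv.autCongr eE.symm).toMonoidHom (AlgEquiv.autCongr eE.symm).surjective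
  · rw [eE.toLinearEquiv.finrank_eq]
    by_contra hle
    have h1 : Module.finrank K E0 = 1 := le_antisymm (by omega) Module.finrank_pos
    have hN : N = ⊤ := by
      rw [← IntermediateField.fixingSubgroup_fixedField N,
        show IntermediateField.fixedField N = ⊥ from IntermediateField.finrank_eq_one_iff.1 h1,
        IntermediateField.fixingSubgroup_bot]
    have htr : ∀ τ φ, eM (τ.toAlgHom.comp φ) = eM φ + B τ := fun τ φ => by
      rw [hAB, (hχ τ).1 (show τ ∈ N by rw [hN]; trivial), one_mul]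
    have hsurj : Function.Surjective (Φ 0) := by
      have hbot : (Φ 0).fieldRange.fixingSubgroup = ⊥ := eq_bot_iff.2 fun τ hτ => by
        rw [Subgroup.mem_bot]
        have h0 : τ.toAlgHom.comp (Φ 0) = Φ 0 := AlgHom.ext fun y =>
          (IntermediateField.mem_fixingSubgroup_iff _ _).1 hτ _ ⟨y, rfl⟩
        have hB : B τ = 0 := by simpa [h0, hΦ] using (htr τ (Φ 0)).symm
        exact hfaith τ fun φ => heinj (by rw [htr, hB, add_zero])
      have := IsGalois.fixedField_fixingSubgroup (Φ 0).fieldRange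
      rw [hbot, IntermediateField.fixedField_bot] at this
      exact fun m => (show m ∈ (Φ 0).fieldRange from this ▸ IntermediateField.mem_top)
    let eL : L ≃ₐ[K] M := AlgEquiv.ofBijective (Φ 0) ⟨(Φ 0).toRingHom.injective, hsurj⟩
    haveI : IsGalois K L := IsGalois.of_algEquiv eL.symm
    obtain ⟨σ, τ, hστ⟩ := hnab inferInstance
    refine hστ ((AlgEquiv.autCongr eL).injective ?_)
    rw [map_mul, map_mul]
    set s := AlgEquiv.autCongr eL σ
    set t := AlgEquiv.autCongr eL τ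
    refine mul_left_cancel (a := (t * s)⁻¹) ?_
    rw [inv_mul_cancel]
    refine hfaith _ fun φ => heinj ?_
    have hmul : ∀ a b : Gal(M/K), ∀ ψ, eM ((a * b).toAlgHom.comp ψ) = eM ψ + B b + B a := fun a b ψ => by
      rw [show (a * b).toAlgHom.comp ψ = a.toAlgHom.comp (b.toAlgHom.comp ψ) from rfl, htr, htr]
    have hinv := htr (t * s)⁻¹ ((t * s).toAlgHom.comp φ)
    rw [show (t * s)⁻¹.toAlgHom.comp ((t * s).toAlgHom.comp φ) = φ from
      AlgHom.ext fun y => (t * s).symm_apply_apply (φ y), hmul] at hinv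
    rw [show ((t * s)⁻¹ * (s * t)).toAlgHom.comp φ = (t * s)⁻¹.toAlgHom.comp ((s * t).toAlgHom.comp φ) from rfl,
      htr, hmul]
    linear_combination -hinv
  · obtain ⟨Q, hQ, hQw⟩ := w.asIdeal.exists_maximal_ideal_liesOver_of_isIntegral (S := 𝓞 M)
    haveI := hQ.isPrime
    haveI := hQw
    have hI : Q.inertia Gal(M/K) = ⊥ := eq_bot_iff.2 fun σ hσ => by
      rw [Subgroup.mem_bot]
      refine hfaith σ fun φ => AlgHom.ext fun x => ?_
      letI : Algebra L M := φ.toRingHom.toAlgebra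
      haveI : IsScalarTower K L M := .of_algebraMap_eq fun y => (φ.commutes y).symm
      haveI : (Q.under (𝓞 L)).LiesOver w.asIdeal := Ideal.LiesOver.tower_bot Q (Q.under (𝓞 L)) w.asIdeal
      exact inertia_fixes w Q (hw _ inferInstance inferInstance) hσ x
    have he : Q.ramificationIdx (𝓞 K) = 1 := by rw [← card_inertia w Q, hI, Subgroup.card_bot]
    by_cases htr : ∀ σ ∈ MulAction.stabilizer Gal(M/K) Q, σ ∈ N
    · obtain ⟨f⟩ := exists_algHom_of_fixed w Q he E0 fun σ hσ x hx => hx ⟨σ, htr σ hσ⟩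
      exact Or.inl ⟨f.comp eE.toAlgHom⟩
    · push_neg at htr
      obtain ⟨σ, hσ, hσN⟩ := htr
      obtain ⟨g, hg⟩ := (isCyclic_stabilizer w Q hI).exists_generator
      have hgA : A g.1 ≠ 1 := fun h => hσN (by
        obtain ⟨n, hn⟩ := Subgroup.mem_zpowers_iff.1 (hg ⟨σ, hσ⟩)
        have : σ = g.1 ^ n := by rw [← SubgroupClass.coe_zpow, hn]
        rw [this]; exact N.zpow_mem ((hχ _).2 h) n)
      set c := B g.1 / (1 - A g.1) with hc
      have hfix : g.1.toAlgHom.comp (Φ c) = Φ c := heinj (by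
        have : (1 - A g.1) ≠ 0 := sub_ne_zero.2 (Ne.symm hgA)
        rw [hAB, hΦ, hc]; field_simp; ring)
      obtain ⟨f⟩ := exists_algHom_of_fixed w Q he (Φ c).fieldRange fun τ hτ x hx => by
        obtain ⟨y, rfl⟩ := hx
        obtain ⟨n, hn⟩ := Subgroup.mem_zpowers_iff.1 (hg ⟨τ, hτ⟩)
        have hgy : g.1 ∈ MulAction.stabilizer Gal(M/K) (Φ c y) := congr($hfix y)
        have : τ = g.1 ^ n := by rw [← SubgroupClass.coe_zpow, hn]
        rw [this]
        exact Subgroup.zpow_mem _ hgy n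
      exact Or.inr ⟨f.comp ((Φ c).rangeRestrict)⟩

end Groth.Agent.NumFieldLib
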