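import Mathlib.NumberTheory.NumberField.Completion.FinitePlace
import Mathlib.NumberTheory.RamificationInertia.Galois
import Mathlib.NumberTheory.RamificationInertia.Ramification
import Mathlib.RingTheory.Invariant.Basic
import Mathlib.FieldTheory.Finite.GaloisField
import Mathlib.FieldTheory.Galois.Basic
import Mathlib.FieldTheory.PrimitiveElement

/-!
# The decomposition group at an unramified prime, and the embedding of its fixed field in the completion
-/

set_option linter.style.haveILetI false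

open NumberField IsDedekindDomain Polynomial Pointwise

namespace Groth.Agent.NumFieldLib

universe u v

variable {K : Type u} {M : Type v} [Field K] [NumberField K] [Field M] [NumberField M] [Algebra K M] [IsGalois K M]
variable (w : HeightOneSpectrum (𝓞 K)) (Q : Ideal (𝓞 M)) [hQ : Q.IsPrime] [hQw : Q.LiesOver w.asIdeal]

instance isGaloisGroup_ringOfIntegers : IsGaloisGroup Gal(M/K) (𝓞 K) (𝓞 M) :=
  IsGaloisGroup.of_isFractionRing _ _ _ K M

include hQw in
theorem Q_ne_bot : Q ≠ ⊥ := Ideal.ne_bot_of_liesOver_of_ne_bot w.ne_bot Q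

include hQw in
theorem card_inertia : Nat.card (Q.inertia Gal(M/K)) = Q.ramificationIdx (𝓞 K) := by
  haveI : Finite (𝓞 K ⧸ w.asIdeal) := Ideal.finiteQuotientOfFreeOfNeBot _ w.ne_bot
  rw [Ideal.card_inertia_eq_ramificationIdxIn w.asIdeal Q,
    Ideal.ramificationIdxIn_eq_ramificationIdx w.asIdeal Q Gal(M/K)]

include hQw in
/-- Inertia fixes a subfield in which the prime below is unramified. -/
theorem inertia_fixes {L : Type*} [Field L] [NumberField L] [Algebra K L] [Algebra L M] [IsScalarTower K L M]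
    (he : (Q.under (𝓞 L)).ramificationIdx (𝓞 K) = 1) {σ : Gal(M/K)} (hσ : σ ∈ Q.inertia Gal(M/K)) (x : L) :
    σ (algebraMap L M x) = algebraMap L M x := by
  haveI : IsGalois L M := IsGalois.tower_top_of_isGalois K L M
  set P := Q.under (𝓞 L) with hP
  haveI : P.LiesOver w.asIdeal := Ideal.LiesOver.tower_bot Q P w.asIdeal
  have hP0 : P ≠ ⊥ := Ideal.ne_bot_of_liesOver_of_ne_bot w.ne_bot P
  let v : HeightOneSpectrum (𝓞 L) := ⟨P, inferInstance, hP0⟩
  haveI : Q.LiesOver v.asIdeal := ⟨rfl⟩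
  have h1 : Nat.card (Q.inertia Gal(M/L)) = Nat.card (Q.inertia Gal(M/K)) := by
    rw [card_inertia v Q, card_inertia w Q, Ideal.ramificationIdx_tower (R := 𝓞 K) P Q, he, one_mul]
  let res : Q.inertia Gal(M/L) → Q.inertia Gal(M/K) := fun τ => ⟨τ.1.restrictScalars K, fun b => τ.2 b⟩
  have hinj : Function.Injective res := fun τ τ' h => Subtype.ext <| AlgEquiv.ext fun y =>
    congr($(congrArg Subtype.val h) y)
  obtain ⟨τ, hτ⟩ := ((Nat.bijective_iff_injective_and_card res).2 ⟨hinj, h1⟩).2 ⟨σ, hσ⟩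
  have : σ = τ.1.restrictScalars K := (congrArg Subtype.val hτ).symm
  rw [this]
  exact τ.1.commutes x

include hQw in
theorem isCyclic_stabilizer (hI : Q.inertia Gal(M/K) = ⊥) :
    IsCyclic (MulAction.stabilizer Gal(M/K) Q) := by
  haveI : Q.IsMaximal := hQ.isMaximal (Q_ne_bot w Q)
  haveI : w.asIdeal.IsMaximal := w.isMaximal
  letI := Ideal.Quotient.field Q
  letI := Ideal.Quotient.field w.asIdeal
  haveI : Finite (𝓞 M ⧸ Q) := Ideal.finiteQuotientOfFreeOfNeBot _ (Q_ne_bot w Q)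
  refine isCyclic_of_injective (Ideal.Quotient.stabilizerHom Q w.asIdeal Gal(M/K))
    ((MonoidHom.ker_eq_bot_iff _).1 ?_)
  rw [Ideal.Quotient.ker_stabilizerHom, eq_bot_iff]
  intro τ hτ
  have : τ.1 ∈ Q.inertia Gal(M/K) := fun b => hτ b
  rw [hI, Subgroup.mem_bot] at this
  exact Subtype.ext this

include hQw in
theorem residue_fixed (r : 𝓞 M) (hr : ∀ σ ∈ MulAction.stabilizer Gal(M/K) Q, σ • r - r ∈ Q) :
    ∃ a : 𝓞 K, r - algebraMap (𝓞 K) (𝓞 M) a ∈ Q := by
  haveI : Q.IsMaximal := hQ.isMaximal (Q_ne_bot w Q)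
  haveI : w.asIdeal.IsMaximal := w.isMaximal
  letI := Ideal.Quotient.field Q
  letI := Ideal.Quotient.field w.asIdeal
  haveI : Finite (𝓞 M ⧸ Q) := Ideal.finiteQuotientOfFreeOfNeBot _ (Q_ne_bot w Q)
  haveI : Finite (𝓞 K ⧸ w.asIdeal) := Ideal.finiteQuotientOfFreeOfNeBot _ w.ne_bot
  have hfix : ∀ f : (𝓞 M ⧸ Q) ≃ₐ[𝓞 K ⧸ w.asIdeal] (𝓞 M ⧸ Q), f (Ideal.Quotient.mk Q r) = Ideal.Quotient.mk Q r := by
    intro f
    obtain ⟨σ, rfl⟩ := Ideal.Quotient.stabilizerHom_surjective Gal(M/K) w.asIdeal Q f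
    exact (Ideal.Quotient.eq).2 (hr σ.1 σ.2)
  obtain ⟨c, hc⟩ := (IsGalois.mem_range_algebraMap_iff_fixed (F := 𝓞 K ⧸ w.asIdeal) _).2 hfix
  obtain ⟨a, rfl⟩ := Ideal.Quotient.mk_surjective c
  refine ⟨a, (Ideal.Quotient.eq).1 (Eq.symm ?_)⟩
  exact hc

include hQw in
theorem exists_uniformizer (he : Q.ramificationIdx (𝓞 K) = 1) :
    ∃ π : 𝓞 K, w.intValuation π = WithZero.exp (-1 : ℤ) ∧ π ∈ w.asIdeal ∧
      algebraMap (𝓞 K) (𝓞 M) π ∉ Q ^ 2 := by
  obtain ⟨π, hπ⟩ := w.intValuation_exists_uniformizer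
  have h1 : π ∈ w.asIdeal := by simpa using (w.intValuation_le_pow_iff_mem π 1).1 (le_of_eq hπ)
  have h2 : π ∉ w.asIdeal ^ 2 := fun h => by
    have := (w.intValuation_le_pow_iff_mem π 2).2 h
    rw [hπ, WithZero.exp_le_exp] at this
    omega
  refine ⟨π, hπ, h1, fun hc => ?_⟩
  have hlt : w.asIdeal ^ (1 + 1) < Ideal.span {π} ⊔ w.asIdeal ^ 2 :=
    lt_of_le_of_ne le_sup_right fun h => h2 (h ▸ Ideal.mem_sup_left (Ideal.mem_span_singleton_self π))
  have hw : Ideal.span {π} ⊔ w.asIdeal ^ 2 = w.asIdeal :=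
    (Ideal.eq_prime_pow_of_succ_lt_of_le (P_prime := w.isPrime) w.ne_bot hlt
      ((sup_le ((Ideal.span_singleton_le_iff_mem _).2 h1) (Ideal.pow_le_self two_ne_zero)).trans
        (pow_one w.asIdeal).ge)).trans (pow_one _)
  have hle : w.asIdeal.map (algebraMap (𝓞 K) (𝓞 M)) ≤ Q ^ 2 := by
    conv_lhs => rw [← hw]
    rw [Ideal.map_sup, Ideal.map_span, Set.image_singleton, Ideal.map_pow]
    exact sup_le ((Ideal.span_singleton_le_iff_mem _).2 hc)
      (Ideal.pow_right_mono (Ideal.map_le_iff_le_comap.2 (hQw.over).le) 2)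
  have hp0 : w.asIdeal.map (algebraMap (𝓞 K) (𝓞 M)) ≠ ⊥ := Ideal.map_ne_bot_of_ne_bot w.ne_bot
  rw [Ideal.IsDedekindDomain.ramificationIdx_eq_multiplicity w.asIdeal Q hp0] at he
  have hfin : FiniteMultiplicity Q (w.asIdeal.map (algebraMap (𝓞 K) (𝓞 M))) :=
    FiniteMultiplicity.of_prime_left (Ideal.prime_of_isPrime (Q_ne_bot w Q) hQ) hp0
  have := hfin.le_multiplicity_of_pow_dvd (Ideal.dvd_iff_le.2 hle)
  omega

/-- A power of a uniformizer generates the power of a prime modulo the next power. -/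
theorem mem_of_mul_pow_mem {R : Type*} [CommRing R] [IsDedekindDomain R] (P : Ideal R) [hP : P.IsPrime]
    (hP0 : P ≠ ⊥) {π : R} (hπ : π ∈ P) (hπ2 : π ∉ P ^ 2) (n : ℕ) {a : R} (h : a * π ^ n ∈ P ^ (n + 1)) :
    a ∈ P := by
  have hp := Ideal.prime_of_isPrime hP0 hP
  obtain ⟨I, hI⟩ := Ideal.dvd_span_singleton.2 hπ
  have hPI : ¬ P ∣ I := fun hd => hπ2 (by
    rw [← Ideal.dvd_span_singleton, hI, sq]; exact mul_dvd_mul_left P hd)
  have h' := Ideal.dvd_span_singleton.2 h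
  rw [← Ideal.span_singleton_mul_span_singleton, ← Ideal.span_singleton_pow, hI, mul_pow, mul_left_comm,
    pow_succ, mul_dvd_mul_iff_left (pow_ne_zero n hp.ne_zero)] at h'
  exact Ideal.dvd_span_singleton.1 ((hp.dvd_or_dvd h').resolve_right fun hd => hPI (hp.dvd_of_dvd_pow hd))

theorem pow_notMem {R : Type*} [CommRing R] [IsDedekindDomain R] (v : HeightOneSpectrum R) (π : R)
    (hπ : π ∈ v.asIdeal) (hπ2 : π ∉ v.asIdeal ^ 2) (n : ℕ) : π ^ n ∉ v.asIdeal ^ (n + 1) := fun h =>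
  v.isPrime.ne_top ((Ideal.eq_top_iff_one _).2
    (mem_of_mul_pow_mem (hP := v.isPrime) v.asIdeal v.ne_bot hπ hπ2 n (by simpa using h)))

include hQw in
theorem mem_pow_of_map_mem_pow {π : 𝓞 K} (hπ : π ∈ w.asIdeal) (hπQ : algebraMap (𝓞 K) (𝓞 M) π ∉ Q ^ 2)
    (n : ℕ) (z : 𝓞 K) (h : algebraMap (𝓞 K) (𝓞 M) z ∈ Q ^ n) : z ∈ w.asIdeal ^ n := by
  induction n generalizing z with
  | zero => simp
  | succ n ih =>
    have hz := ih z (Ideal.pow_le_pow_right n.le_succ h)
    have hπn : π ^ n ∈ w.asIdeal ^ n := Ideal.pow_mem_pow hπ n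
    have hπ2 : π ∉ w.asIdeal ^ 2 := fun h2 => hπQ
      (Ideal.pow_right_mono (Ideal.map_le_iff_le_comap.2 hQw.over.le) 2
        (Ideal.map_pow (algebraMap (𝓞 K) (𝓞 M)) w.asIdeal 2 ▸ Ideal.mem_map_of_mem _ h2))
    obtain ⟨a, ha⟩ : ∃ a, z - a * π ^ n ∈ w.asIdeal ^ (n + 1) := by
      have hgen : Ideal.span {π ^ n} ⊔ w.asIdeal ^ (n + 1) = w.asIdeal ^ n := by
        refine Ideal.eq_prime_pow_of_succ_lt_of_le (P_prime := w.isPrime) w.ne_bot (lt_of_le_of_ne le_sup_right fun he => ?_)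
          (sup_le ((Ideal.span_singleton_le_iff_mem _).2 hπn) (Ideal.pow_le_pow_right n.le_succ))
        have : π ^ n ∈ w.asIdeal ^ (n + 1) := he ▸ Ideal.mem_sup_left (Ideal.mem_span_singleton_self _)
        exact pow_notMem w π hπ hπ2 n this
      rw [← hgen] at hz
      obtain ⟨s, hs, t, ht, rfl⟩ := Submodule.mem_sup.1 hz
      obtain ⟨a, rfl⟩ := Ideal.mem_span_singleton'.1 hs
      exact ⟨a, by simpa using ht⟩
    have ha' : algebraMap (𝓞 K) (𝓞 M) (a * π ^ n) ∈ Q ^ (n + 1) := by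
      have := Ideal.mem_map_of_mem (algebraMap (𝓞 K) (𝓞 M)) ha
      rw [Ideal.map_pow] at this
      simpa using (Q ^ (n + 1)).sub_mem h (Ideal.pow_right_mono (Ideal.map_le_iff_le_comap.2 hQw.over.le) _ this)
    have haQ : algebraMap (𝓞 K) (𝓞 M) a ∈ Q := mem_of_mul_pow_mem Q (Q_ne_bot w Q)
      (Ideal.map_le_iff_le_comap.2 hQw.over.le (Ideal.mem_map_of_mem _ hπ)) hπQ n (by simpa using ha')
    have : a * π ^ n ∈ w.asIdeal ^ (n + 1) := by
      rw [pow_succ']
      exact Ideal.mul_mem_mul (hQw.over.ge haQ) hπn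
    simpa using (w.asIdeal ^ (n + 1)).add_mem ha this

/-- The embedding of integers in the completion. -/
noncomputable abbrev intEmb : 𝓞 K →+* w.adicCompletion K :=
  (FinitePlace.embedding w).comp (algebraMap (𝓞 K) K)

theorem norm_intEmb_le {π : 𝓞 K} (hπ : w.intValuation π = WithZero.exp (-1 : ℤ)) {n : ℕ} {z : 𝓞 K}
    (hz : z ∈ w.asIdeal ^ n) : ‖intEmb w z‖ ≤ ‖intEmb w π‖ ^ n := by
  rw [← norm_pow, ← map_pow, RingHom.comp_apply, RingHom.comp_apply, FinitePlace.norm_embedding_int,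
    FinitePlace.norm_embedding_int, NNReal.coe_le_coe]
  refine (WithZeroMulInt.toNNReal_strictMono (HeightOneSpectrum.one_lt_absNorm_nnreal w)).monotone ?_
  refine ((w.intValuation_le_pow_iff_mem z n).2 hz).trans (le_of_eq ?_)
  rw [map_pow, hπ, ← WithZero.exp_nsmul]
  congr 1
  simp

include hQw in
/-- An integral element fixed by the decomposition group satisfies its equations over the completion. -/
theorem exists_root (he : Q.ramificationIdx (𝓞 K) = 1) (g : (𝓞 K)[X]) (b : 𝓞 M)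
    (hb : ∀ σ ∈ MulAction.stabilizer Gal(M/K) Q, σ • b = b) (hg : aeval b g = 0) :
    ∃ Y : w.adicCompletion K, eval₂ (intEmb w) Y g = 0 := by
  obtain ⟨π, hπv, hπ, hπQ⟩ := exists_uniformizer w Q he
  let ι := algebraMap (𝓞 K) (𝓞 M)
  have hιπ : ι π ∈ Q := Ideal.map_le_iff_le_comap.2 hQw.over.le (Ideal.mem_map_of_mem _ hπ)
  have step : ∀ n (y : 𝓞 K), b - ι y ∈ Q ^ n → ∃ a, b - ι (y + a * π ^ n) ∈ Q ^ (n + 1) := by
    intro n y hy
    have hgen : Ideal.span {ι π ^ n} ⊔ Q ^ (n + 1) = Q ^ n := by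
      refine Ideal.eq_prime_pow_of_succ_lt_of_le (Q_ne_bot w Q) (lt_of_le_of_ne le_sup_right fun he => ?_)
        (sup_le ((Ideal.span_singleton_le_iff_mem _).2 (Ideal.pow_mem_pow hιπ n)) (Ideal.pow_le_pow_right n.le_succ))
      exact pow_notMem ⟨Q, hQ, Q_ne_bot w Q⟩ _ hιπ hπQ n
        (he ▸ Ideal.mem_sup_left (Ideal.mem_span_singleton_self _))
    rw [← hgen] at hy
    obtain ⟨s, hs, t, ht, hst⟩ := Submodule.mem_sup.1 hy
    obtain ⟨r, rfl⟩ := Ideal.mem_span_singleton'.1 hs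
    obtain ⟨a, ha⟩ := residue_fixed w Q r fun σ hσ => by
      refine mem_of_mul_pow_mem Q (Q_ne_bot w Q) hιπ hπQ n ?_
      have h1 : σ • (r * ι π ^ n + t) = r * ι π ^ n + t := by
        rw [hst, smul_sub, hb σ hσ, smul_algebraMap]
      rw [smul_add, smul_mul', smul_pow', smul_algebraMap] at h1
      have h2 : (σ • r - r) * ι π ^ n = t - σ • t := by linear_combination h1
      rw [h2]
      refine (Q ^ (n + 1)).sub_mem ht ?_
      have h3 : σ • t ∈ σ • (Q ^ (n + 1)) := Ideal.smul_mem_pointwise_smul σ t _ ht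
      rwa [smul_pow', MulAction.mem_stabilizer_iff.1 hσ] at h3
    refine ⟨a, ?_⟩
    have : b - ι (y + a * π ^ n) = (r - ι a) * ι π ^ n + t := by
      rw [map_add, map_mul, map_pow]; linear_combination -hst
    rw [this, pow_succ']
    exact add_mem (Ideal.mul_mem_mul ha (Ideal.pow_mem_pow hιπ n)) (by rwa [pow_succ'] at ht)
  choose a ha using step
  let y : ∀ n : ℕ, {y : 𝓞 K // b - ι y ∈ Q ^ n} := fun n => Nat.rec ⟨0, by simp⟩
    (fun n p => ⟨p.1 + a n p.1 p.2 * π ^ n, ha n p.1 p.2⟩) n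
  have hgy : ∀ n, eval (y n).1 g ∈ w.asIdeal ^ n := fun n => by
    refine mem_pow_of_map_mem_pow w Q hπ hπQ n _ ?_
    have h1 : b - ι (y n).1 ∣ aeval b g - aeval (ι (y n).1) g := by
      simp only [aeval_def, eval₂_eq_eval_map]; exact sub_dvd_eval_sub _ _ _
    rw [hg, zero_sub, dvd_neg, aeval_algebraMap_apply] at h1
    exact Ideal.mem_of_dvd _ h1 (y n).2
  set ρ := ‖intEmb w π‖ with hρ
  have hρ1 : ρ < 1 := (FinitePlace.norm_lt_one_iff_mem K w π).2 hπ
  have hc : CauchySeq fun n => intEmb w (y n).1 := by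
    refine cauchySeq_of_le_geometric ρ 1 hρ1 fun n => ?_
    rw [dist_comm, dist_eq_norm, ← map_sub, one_mul, hρ, ← norm_pow, ← map_pow]
    have : (y (n + 1)).1 - (y n).1 = a n (y n).1 (y n).2 * π ^ n := add_sub_cancel_left _ _
    rw [this, map_mul, norm_mul]
    exact mul_le_of_le_one_left (norm_nonneg _) (FinitePlace.norm_le_one K w _)
  obtain ⟨Y, hY⟩ := cauchySeq_tendsto_of_complete hc
  refine ⟨Y, ?_⟩
  have hcont : Continuous fun x : w.adicCompletion K => eval₂ (intEmb w) x g := by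
    simp only [eval₂_eq_eval_map]; exact Polynomial.continuous _
  refine tendsto_nhds_unique ((hcont.tendsto Y).comp hY) (squeeze_zero_norm (fun n => ?_)
    (tendsto_pow_atTop_nhds_zero_of_lt_one (norm_nonneg _) hρ1))
  rw [Function.comp_apply, eval₂_at_apply]
  exact norm_intEmb_le w hπv (hgy n)

include hQw in
/-- The fixed field of the decomposition group at an unramified prime embeds in the completion. -/
theorem exists_algHom_of_fixed (he : Q.ramificationIdx (𝓞 K) = 1) (F : IntermediateField K M)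
    (hF : ∀ σ ∈ MulAction.stabilizer Gal(M/K) Q, ∀ x ∈ F, σ x = x) :
    Nonempty (F →ₐ[K] w.adicCompletion K) := by
  obtain ⟨θ, hθ⟩ := Field.exists_primitive_element K F
  obtain ⟨d, hd, hint⟩ : ∃ d : 𝓞 K, d ≠ 0 ∧ IsIntegral (𝓞 K) (d • (θ : M)) := by
    obtain ⟨m, hm⟩ := IsIntegral.exists_multiple_integral_of_isLocalization (nonZeroDivisors (𝓞 K)) (θ : M)
      (Algebra.IsIntegral.isIntegral (R := K) (θ : M))
    exact ⟨m, nonZeroDivisors.coe_ne_zero m, hm⟩
  have hd' : algebraMap (𝓞 K) K d ≠ 0 := by simpa using hd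
  set α : F := algebraMap (𝓞 K) K d • θ with hα
  have hαM : (α : M) = d • (θ : M) := by rw [hα, IntermediateField.coe_smul, algebraMap_smul]
  rw [← hαM] at hint
  have hαtop : IntermediateField.adjoin K {α} = ⊤ := by
    rw [eq_top_iff, ← hθ, IntermediateField.adjoin_simple_le_iff]
    have : θ = (algebraMap (𝓞 K) K d)⁻¹ • α := (eq_inv_smul_iff₀ hd').2 hα.symm
    rw [this]
    exact IntermediateField.smul_mem _ (IntermediateField.mem_adjoin_simple_self K α)
  let b : 𝓞 M := ⟨(α : M), isIntegral_trans (R := ℤ) (A := 𝓞 K) _ hint⟩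
  set g := minpoly (𝓞 K) (α : M) with hgdef
  have hb : ∀ σ ∈ MulAction.stabilizer Gal(M/K) Q, σ • b = b := fun σ hσ =>
    RingOfIntegers.ext (hF σ hσ _ α.2)
  have hg : aeval b g = 0 := by
    apply RingOfIntegers.coe_injective
    rw [map_zero, ← aeval_algebraMap_apply]
    exact minpoly.aeval _ _
  obtain ⟨Y, hY⟩ := exists_root w Q he g b hb hg
  have hmin : minpoly K α = g.map (algebraMap (𝓞 K) K) :=
    (minpoly.algHom_eq F.val Subtype.val_injective α).symm.trans (minpoly.isIntegrallyClosed_eq_field_fractions' K hint)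
  have hroot : aeval Y (minpoly K α) = 0 := by
    rw [hmin, aeval_def, eval₂_map]
    exact hY
  have hαK : IsIntegral K α := Algebra.IsIntegral.isIntegral α
  let f := (IntermediateField.adjoin.powerBasis hαK).lift Y (by
    rw [IntermediateField.adjoin.powerBasis_gen, IntermediateField.minpoly_gen, hroot])
  exact ⟨f.comp ((IntermediateField.topEquiv (F := K) (E := F)).symm.trans
    (IntermediateField.equivOfEq hαtop.symm)).toAlgHom⟩

end Groth.Agent.NumFieldLib
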